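import Mathlib
import Cfsg.Agent.QF.Defs
import Cfsg.Agent.QF.K0
import Cfsg.Agent.TD.Mod2
import Cfsg.Agent.QT.KExc

/-! # S1849, piece QF-D4: 3D4(q), q even (proof in stubs/Cfsg/Agent/QF/PLAN.md) -/

set_option autoImplicit false
set_option linter.unusedVariables false

namespace Cfsg.Agent.QF

open Cfsg Subgroup Cfsg.Agent.GT Cfsg.Agent.Inv Cfsg.Agent.Cmp Cfsg.Agent.QE
open scoped commutatorElement

universe u

variable {F : Type} [Field F] [Fintype F]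

section Aux

open Cfsg.Lie Cfsg.Agent.Chev Cfsg.Lie.ChevalleyDatum

theorem D4_emb (s : TD.Cu F) : ∃ ι : TD.SG s →* (twD4 s.σ).G1, Function.Injective ι ∧
    ι.range = (chevD4.posUnipotent F).subgroupOf (twD4 s.σ).G1 ∧
    ∀ t h, (ι (TD.x4 t h) : GL chevD4.Idx F) = chevD4.X F (d4r 23) t := by
  have hi : Function.Injective ((chevD4.group F).subtype.comp (TD.Mod1.emb s)) :=
    Subtype.val_injective.comp TD.Mod1.emb_inj
  have h1 : ((twD4 s.σ).G1).comap ((chevD4.group F).subtype.comp (TD.Mod1.emb s)) = ⊤ := TD.Mod1.eq_top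
    (fun a => mem_comap.2 (Set.mem_of_eq_of_mem (TD.Mod1.emb_x1 a) ((twD4 s.σ).y_mem_G1 1 (s.σ3 a))))
    fun u h => mem_comap.2 (Set.mem_of_eq_of_mem ((TD.Mod1.emb_x6 u h).trans (twD4_y s.σ u).1.symm)
      ((twD4 s.σ).y_mem_G1 0 h))
  have h4 : ∀ g, (chevD4.group F).subtype.comp (TD.Mod1.emb s) g ∈ (twD4 s.σ).G1 := fun g => h1.ge (mem_top g)
  have hj : Function.Injective (((chevD4.group F).subtype.comp (TD.Mod1.emb s)).codRestrict _ h4) :=
    fun a b h => hi (congrArg (fun x : (twD4 s.σ).G1 => (x : GL chevD4.Idx F)) h)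
  refine ⟨_, hj, ?_, fun t h => TD.Mod1.emb_x4 t h⟩
  obtain ⟨ι, k1, k2, -⟩ := TD.Mod2.exists_emb' s
  refine eq_of_le_of_card_ge ?_ ?_
  · rintro _ ⟨g, rfl⟩
    exact TD.Mod1.emb_pos g
  · rw [← k2, ← Nat.card_congr (MonoidHom.ofInjective hj).toEquiv,
      ← Nat.card_congr (MonoidHom.ofInjective k1).toEquiv]

theorem D4_sq [CharP F 2] {s : TD.Cu F} {g : TD.SG s} (h : g ∈ TD.Z2 s) : g ^ 2 = 1 :=
  (TD.pow_p 2 g).2.2.2 (TD.Z2_le h)

theorem D4_nu [CharP F 2] {s : TD.Cu F} {g : TD.SG s} (h4 : g ^ 4 = 1)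
    (h : ∀ u, u * g * u⁻¹ = g ∨ u * g * u⁻¹ = g⁻¹) : g ^ 2 = 1 := by
  have e : (g ^ 2)⁻¹ = g ^ 2 := inv_eq_of_mul_eq_one_right (by rw [← pow_add]; exact h4)
  have h1 : g ^ 2 ∈ TD.Z1 s := TD.mem_Z1_iff.2 fun u => by
    rw [← commutatorElement_inv, inv_eq_one, commutatorElement_def, ← conj_pow]
    rcases h u with k | k <;> rw [k]
    · exact mul_inv_cancel _
    · rw [inv_pow, e, ← pow_add]; exact h4
  refine D4_sq (TD.mem_Z2_iff.2 fun u => TD.cm_swap ?_)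
  rw [commutatorElement_def]
  rcases h u with k | k <;> rw [k]
  · rw [mul_inv_cancel]; exact one_mem _
  · rw [← mul_inv_rev, ← pow_two]; exact inv_mem h1

theorem D4_inj (s : TD.Cu F) :
    Function.Injective ((QuotientGroup.mk' (Inn (twD4 s.σ).G1)).comp (TD.Mod2.act s)) := by
  refine (injective_iff_map_eq_one _).2 fun σ hσ => ?_
  obtain ⟨g, hg⟩ : TD.Mod2.act s σ ∈ Inn (twD4 s.σ).G1 := (QuotientGroup.eq_one_iff _).1 hσ
  replace hg : MulAut.conj g = Twist.dfAut (1 : (twD4 s.σ).C) σ := hg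
  have : Finite (twD4 s.σ).sub.K := inferInstanceAs (Finite (twD4 s.σ).G1)
  have hj : ∀ t, ((twD4 s.σ).f ^ (twD4 s.σ).d 1) t = t := fun t => s.σ3 t
  have h1 := (RootBN.Sub.conj_mem_NA_iff (T := (twD4 s.σ).sub) (twD4 s.σ).cover_S (x := g)).1
    (hg ▸ Twist.dfAut_mem_NA 1 σ)
  obtain ⟨a, -, -, h2, -⟩ := (twD4 s.σ).exists_conj_y h1 ((twD4 s.σ).G1_le_Fix g.2).2 1
  have h3 : ∀ t, a * t = σ t := fun t => (twD4 s.σ).y_injective 1 (by
    have := Twist.dfHom_y (1 : (twD4 s.σ).C) σ 1 t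
    rw [← h2, show σ t = (1 : (twD4 s.σ).C).1 ((twD4 s.σ).rep 1) * σ t by simp, ← this]
    exact congrArg (fun θ : MulAut (twD4 s.σ).G1 => (θ ((twD4 s.σ).yG 1 ⟨t, hj t⟩) : GL chevD4.Idx F)) hg)
  have h4 : (a : F) = 1 := by simpa using h3 1
  exact RingEquiv.ext fun t => by rw [← h3, h4, one_mul]; rfl

theorem D4_main [CharP F 2] (s : TD.Cu F) (hc : Nat.card (Out (twD4 s.σ).G1) = Nat.card (RingAut F)) :
    NU (twD4 s.σ).G1 ∧ ZV (twD4 s.σ).G1 ∧ OC (twD4 s.σ).G1 := by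
  obtain ⟨ι, h2, h3, h4⟩ := D4_emb s
  let P : Sylow 2 (twD4 s.σ).G1 := IsPGroup.toSylow (P := ι.range)
    ((TD.isPGroup_SG 2).of_equiv (MonoidHom.ofInjective h2)) (h3 ▸ TD.Mod2.not_dvd s 2)
  have hP : ∀ x, x ∈ P ↔ ∃ g, ι g = x := fun _ => Iff.rfl
  have hP' : ∀ x : (twD4 s.σ).G1, x ∈ P ↔ (x : GL chevD4.Idx F) ∈ chevD4.posUnipotent F := fun x => by
    rw [← mem_subgroupOf, ← h3]; rfl
  have hb := (D4_inj s).bijective_of_nat_card_le hc.le
  have : Finite (twD4 s.σ).sub.K := inferInstanceAs (Finite (twD4 s.σ).G1)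
  refine ⟨NU.of_one P ?_, ZV.of_one P fun β hβ hU hv => ?_, ?_⟩
  · rintro _ ⟨g, rfl⟩ k4 k
    rw [← map_pow, D4_nu (h2 (by rw [map_pow, k4, map_one])) fun u => ?_, map_one]
    exact (k _ ⟨u, rfl⟩).imp (fun e => h2 (by simpa using e)) fun e => h2 (by simpa using e)
  · obtain ⟨φ, hφ⟩ := hb.2 (QuotientGroup.mk β)
    obtain ⟨g, hg⟩ : β * (TD.Mod2.act s φ)⁻¹ ∈ Inn (twD4 s.σ).G1 := by
      rw [← QuotientGroup.eq_one_iff, QuotientGroup.mk_mul, QuotientGroup.mk_inv, ← hφ]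
      exact mul_inv_cancel _
    have hn := (Twist.dfAut_mem_NA (1 : (twD4 s.σ).C) φ).1
    have hB : (g : GL chevD4.Idx F) ∈ (chevD4.rootBN F).B := (twD4 s.σ).sub.mem_B_of_conj g.2 fun u hu huK => by
      have e := congrArg (fun θ : MulAut (twD4 s.σ).G1 => (θ ⟨u, huK⟩ : GL chevD4.Idx F)) hg
      refine Set.mem_of_eq_of_mem e ((hP' _).1 (hU _ ((hP' _).2 ?_)))
      refine (hn _).1 ?_
      have : Twist.dfAut (1 : (twD4 s.σ).C) φ ((TD.Mod2.act s φ)⁻¹ ⟨u, huK⟩) = ⟨u, huK⟩ :=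
        (TD.Mod2.act s φ).apply_symm_apply _
      exact Set.mem_of_eq_of_mem (congrArg Subtype.val this) hu
    obtain ⟨u, hu, huK, h, hh, hhK, e⟩ := (twD4 s.σ).sub.closed.mem_B_iff.1 ⟨hB, g.2⟩
    obtain ⟨χ, hχ, rfl⟩ := chevD4.exists_char_of_mem_diagonal F hh
    obtain ⟨w, hw⟩ := (hP _).1 ((hP' ⟨u, huK⟩).2 hu)
    have hz : ∀ t h, TD.x4 t h ∈ TD.Z1 s := fun t h => by simp
    have hcen : ∀ t h, ι (TD.x4 t h) ∈ CC (P : Subgroup (twD4 s.σ).G1) := fun t h => by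
      rw [mem_centralizer_iff]
      rintro _ ⟨y, rfl⟩
      rw [← map_mul, ← map_mul, (commutatorElement_eq_one_iff_mul_comm.1 (TD.Z1_cm (hz t h) y))]
    have key : ∀ t, s.σ t = t → χ (d4r 23) * φ t = t := fun t ht => by
      have e1 := hv _ ⟨TD.x4 t ht, rfl⟩ (hcen t ht) (by rw [← map_mul, ← pow_two, D4_sq (TD.Z1_le (hz t ht)), map_one])
      have e2 : β = MulAut.conj g * TD.Mod2.act s φ := by rw [hg, inv_mul_cancel_right]
      have e3 : (TD.Mod2.act s φ (ι (TD.x4 t ht)) : GL chevD4.Idx F) = chevD4.X F (d4r 23) (φ t) := by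
        rw [TD.Mod2.coe_act, h4]
        exact Units.ext (x_map chevD4 φ.toRingHom (d4r 23) t)
      have e4 := congrArg Subtype.val e1
      rw [e2, MulAut.mul_apply, MulAut.conj_apply, coe_mul, coe_mul, coe_inv, e3, e, h4] at e4
      have e5 := congrArg Subtype.val (mem_centralizer_iff.1 (hcen t ht) (ι w) ⟨w, rfl⟩)
      rw [coe_mul, coe_mul, hw, h4] at e5
      refine chevD4.X_injective F (d4r 23) ?_
      rw [← chevD4.charG_conj_X F hχ]
      have e6 : u * (chevD4.charG F χ * chevD4.X F (d4r 23) (φ t) * (chevD4.charG F χ)⁻¹) * u⁻¹ =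
          u * chevD4.X F (d4r 23) t * u⁻¹ := by
        rw [mul_inv_eq_iff_eq_mul.2 e5, ← e4]; group
      exact mul_left_cancel (mul_right_cancel e6)
    have k1 : (χ (d4r 23) : F) = 1 := by simpa using key 1 (map_one _)
    have k3 : φ ^ 3 = 1 := by
      have k := TD.aut_fix (s := s) φ fun t ht => by simpa [k1] using key t ht
      refine RingEquiv.ext fun t => ?_
      change φ (φ (φ t)) = t
      rcases k with rfl | rfl | rfl <;> simp
    obtain ⟨n, hn⟩ := hβ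
    have k2 : φ ^ 2 ^ n = 1 := hb.1 (by
      rw [map_pow, hφ, map_one, ← QuotientGroup.mk_pow, hn, QuotientGroup.mk_one])
    have k0 : φ = 1 := by
      have := pow_gcd_eq_one.2 ⟨k3, k2⟩
      rwa [Nat.Coprime.gcd_eq_one (Nat.Coprime.pow_right _ (by decide)), pow_one] at this
    rw [k0, map_one, inv_one, mul_one] at hg
    exact mul_mem ⟨g, hg⟩ ⟨g, hg⟩
  · have := Cl.Aut.isCyclic_ringAut (F := F)
    have : IsCyclic (Out (twD4 s.σ).G1) := isCyclic_of_surjective _ hb.2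
    exact oc_of_cyclic (MonoidHom.id _) (by simp [MonoidHom.ker_id])

end Aux

theorem gd_d4 [CharP F 2] {q : ℕ} (hq : IsPrimePow q) (hF : Fintype.card F = q ^ 3) :
    NU (Lie.twistedD4 F q) ∧ ZV (Lie.twistedD4 F q) ∧ OC (Lie.twistedD4 F q) := by
  obtain ⟨p, f, hp, hp', hf, rfl⟩ := QT.exists_char_pow hq hF
  obtain rfl : p = 2 := CharP.eq F hp' ‹CharP F 2›
  have hF' : Fintype.card F = 2 ^ (3 * f) := by rw [hF, ← pow_mul, mul_comm]
  have h1 := S2129.result 2 f hF' hf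
  obtain ⟨σ, hσ⟩ := Chev.tw_exists_frob hq three_ne_zero hF
  have h0 : ∃ θ, σ θ ≠ θ := by
    by_contra h
    push Not at h
    have h2 := Chev.twD4_card_fixed hq hF hσ 0
    rw [Chev.twD4_d, Chev.twD4_f, Nat.card_congr (Equiv.subtypeUnivEquiv fun t => by simpa using h t),
      Nat.card_eq_fintype_card, hF] at h2
    exact absurd (Nat.pow_right_injective hq.two_le h2) (by simp)
  let s : TD.Cu F := ⟨σ, fun x => by simpa [pow_succ] using Chev.twD4_f_cube hF hσ x, h0⟩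
  rw [← Chev.twD4_G1 hF hσ] at h1 ⊢
  refine D4_main s ?_
  rw [Cl.Aut.card_ringAut (p := 2) (f := 3 * f) (by rw [Nat.card_eq_fintype_card, hF'])]
  exact h1

end Cfsg.Agent.QF
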