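import Mathlib
import Cfsg.Agent.QF.K0
import Cfsg.Agent.Chev.AutData
import Cfsg.Agent.Chev.G2Rep
import Cfsg.Agent.Chev.IsogFix
import Cfsg.Agent.S2180
import Cfsg.Agent.Perm.RankOneField

/-! # S1849, piece QF-G2: G2(q), q ≥ 4 even (proof in stubs/Cfsg/Agent/QF/PLAN.md) -/

set_option autoImplicit false
set_option linter.unusedVariables false
set_option linter.unusedSectionVars false
set_option backward.isDefEq.respectTransparency false

namespace Cfsg.Agent.QF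

open Cfsg Subgroup Cfsg.Agent.GT Cfsg.Agent.Inv Cfsg.Agent.Cmp Cfsg.Agent.QE
open Cfsg.Lie Cfsg.Lie.ChevalleyDatum Cfsg.Agent.Chev
open scoped commutatorElement Matrix

universe u

variable {F : Type} [Field F] [Fintype F]

/-- If a one-parameter group normalizes `⟨x⟩`, one of its non-trivial members centralizes `x`. -/
theorem G2_par [CharP F 2] (h : 3 ≤ Fintype.card F) {X : Type*} [Group X] {y : F → X} {x : X}
    (add : ∀ a b, y (a + b) = y a * y b) (hy : ∀ a, y a * x * (y a)⁻¹ = x ∨ y a * x * (y a)⁻¹ = x⁻¹) :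
    ∃ t, t ≠ 0 ∧ y t * x = x * y t := by
  obtain ⟨w, w0, w1⟩ : ∃ w : F, w ≠ 0 ∧ w ≠ 1 := by
    classical
    by_contra! k
    have : (Finset.univ : Finset F) ⊆ {0, 1} := fun w _ => by
      by_cases e : w = 0 <;> simp [e, k w]
    have h1 := (Finset.card_le_card this).trans Finset.card_le_two
    rw [Finset.card_univ] at h1
    omega
  rcases hy 1 with h1 | h1
  · exact ⟨1, one_ne_zero, mul_inv_eq_iff_eq_mul.1 h1⟩
  rcases hy w with h2 | h2
  · exact ⟨w, w0, mul_inv_eq_iff_eq_mul.1 h2⟩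
  refine ⟨1 + w, fun e => w1 (CharTwo.add_eq_zero.1 e).symm, mul_inv_eq_iff_eq_mul.1 ?_⟩
  calc _ = y 1 * (y w * x * (y w)⁻¹) * (y 1)⁻¹ := by rw [add]; group
    _ = (y 1 * x * (y 1)⁻¹)⁻¹ := by rw [h2]; group
    _ = x := by rw [h1, inv_inv]

section Mat

variable {K : Type*} [CommRing K] (t a b c d e f g : K)

theorem G2_y6 : G2.Y 6 t *ᵥ ![a, b, c, d, e, f, g] = ![a, b + t * c, c, d, e + t * f, f, g] := by
  ext i; fin_cases i <;> simp [G2.Y_mulVec, G2.sp]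

theorem G2_y7 : G2.Y 7 t *ᵥ ![a, b, c, d, e, f, g] =
    ![a + t * b, b, c + (2 * t * d + t ^ 2 * e), d + t * e, e, f + t * g, g] := by
  ext i; fin_cases i <;> simp [G2.Y_mulVec, G2.sp]

theorem G2_y8 : G2.Y 8 t *ᵥ ![a, b, c, d, e, f, g] =
    ![a + -(t * c), b + (2 * t * d + -(t ^ 2 * f)), c, d + -(t * f), e + t * g, f, g] := by
  ext i; fin_cases i <;> simp [G2.Y_mulVec, G2.sp]

theorem G2_y9 : G2.Y 9 t *ᵥ ![a, b, c, d, e, f, g] =
    ![a + (-(2 * t * d) + t ^ 2 * g), b + t * e, c + t * f, d + -(t * g), e, f, g] := by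
  ext i; fin_cases i <;> simp [G2.Y_mulVec, G2.sp]

theorem G2_y10 : G2.Y 10 t *ᵥ ![a, b, c, d, e, f, g] = ![a + t * e, b, c + -(t * g), d, e, f, g] := by
  ext i; fin_cases i <;> simp [G2.Y_mulVec, G2.sp]

theorem G2_y11 : G2.Y 11 t *ᵥ ![a, b, c, d, e, f, g] = ![a + -(t * f), b + -(t * g), c, d, e, f, g] := by
  ext i; fin_cases i <;> simp [G2.Y_mulVec, G2.sp]

end Mat

local notation "𝐱" => chevG2.XG F

theorem G2_mem {r : ℕ} (h : r < 12) (h' : 6 ≤ r) (t : F) : 𝐱 r t ∈ chevG2.UG F :=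
  X_mem_U (r := ⟨r, h⟩) ((chevG2.isPos_iff_le _).2 (by change 12 ≤ 2 * r; omega)) t

theorem G2_sq [CharP F 2] {r : ℕ} (h : r < 12) (t : F) : 𝐱 r t * 𝐱 r t = 1 := by
  rw [← G2.XG_add h, CharTwo.add_self_eq_zero]
  exact Subtype.ext (chevG2.X_zero F r)

theorem G2_cm [CharP F 2] {r s : ℕ} (h : chevG2.Cm2 r s []) (t u : F) : Commute (𝐱 r t) (𝐱 s u) :=
  Subtype.ext (X_commute2' h t u)

/-- The Sylow subgroup. -/
noncomputable def G2_syl (F : Type) [Field F] [Fintype F] [CharP F 2] : Sylow 2 (chevG2.group F) :=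
  (chevG2.isPGroup_UG F 2).toSylow (chevG2.not_dvd_index_UG F 2)

theorem G2_nu [CharP F 2] (h : 3 ≤ Fintype.card F) : NU (chevG2.group F) := by
  refine NU.of_one (G2_syl F) fun x hx _ hc => ?_
  obtain ⟨k, rfl⟩ := Isog.exists_prod_of_mem_U chevG2 F
    (l := [⟨7, by decide⟩, ⟨6, by decide⟩, ⟨8, by decide⟩, ⟨9, by decide⟩, ⟨10, by decide⟩, ⟨11, by decide⟩])
    (by decide) (fun r => by rw [isPos_iff_le]; revert r; decide) hx
  simp only [List.map_cons, List.map_nil, List.prod_cons, List.prod_nil, mul_one] at hc ⊢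
  generalize k ⟨7, _⟩ = a, k ⟨6, _⟩ = b, k ⟨8, _⟩ = c, k ⟨9, _⟩ = d, k ⟨10, _⟩ = e, k ⟨11, _⟩ = f at hc ⊢
  have key : ∀ r, r < 12 → 6 ≤ r → ∃ t : F, t ≠ 0 ∧ ∀ v : Fin 7 → F,
      (G2.Y r t *ᵥ G2.Y 7 a *ᵥ G2.Y 6 b *ᵥ G2.Y 8 c *ᵥ G2.Y 9 d *ᵥ G2.Y 10 e *ᵥ G2.Y 11 f *ᵥ v) 0 =
        (G2.Y 7 a *ᵥ G2.Y 6 b *ᵥ G2.Y 8 c *ᵥ G2.Y 9 d *ᵥ G2.Y 10 e *ᵥ G2.Y 11 f *ᵥ G2.Y r t *ᵥ v) 0 := fun r h1 h2 => by
    obtain ⟨t, t0, ht⟩ := G2_par h (G2.XG_add h1) fun s => hc _ (G2_mem h1 h2 s)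
    refine ⟨t, t0, fun v => ?_⟩
    have := congrArg (fun g => (G2.rho F g *ᵥ v) 0) ht
    simpa (disch := first | assumption | decide) only [map_mul, G2.rho_XG, ← Matrix.mulVec_mulVec] using this
  have two : (2 : F) = 0 := CharTwo.two_eq_zero
  obtain rfl : a = 0 := by
    obtain ⟨t, t0, ht⟩ := key 6 (by decide) (by decide)
    simpa [G2_y6, G2_y7, G2_y8, G2_y9, G2_y10, G2_y11, t0] using ht ![0, 0, 1, 0, 0, 0, 0]
  obtain rfl : b = 0 := by
    obtain ⟨t, t0, ht⟩ := key 7 (by decide) (by decide)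
    simpa [G2_y6, G2_y7, G2_y8, G2_y9, G2_y10, G2_y11, t0] using ht ![0, 0, 1, 0, 0, 0, 0]
  obtain rfl : c = 0 := by
    obtain ⟨t, t0, ht⟩ := key 9 (by decide) (by decide)
    simpa [G2_y6, G2_y7, G2_y8, G2_y9, G2_y10, G2_y11, t0, two] using ht ![0, 0, 0, 0, 0, 1, 0]
  have z : ∀ r < 12, 𝐱 r (0 : F) = 1 := fun r hr => Subtype.ext (chevG2.X_zero F r)
  have h1 := G2_cm (r := 9) (s := 10) (by decide +kernel) d e
  have h2 := G2_cm (r := 9) (s := 11) (by decide +kernel) d f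
  have h3 := G2_cm (r := 10) (s := 11) (by decide +kernel) e f
  rw [z 7 (by decide), z 6 (by decide), z 8 (by decide), one_mul, one_mul, one_mul, (h1.mul_right h2).mul_pow, h3.mul_pow,
    pow_two, pow_two, pow_two, G2_sq (by decide), G2_sq (by decide), G2_sq (by decide), one_mul, one_mul]

theorem G2_aut [CharP F 2] (θ : MulAut (chevG2.group F)) :
    ∃ x σ, θ = MulAut.conj x * chevG2.fieldAutHom F σ := by
  obtain ⟨x, c, π, g, σ, h1, h2, rfl⟩ := autOK_G2.decomp θ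
  obtain rfl : π = 1 := (diagramSymmetry_B2 π).resolve_right fun e => by
    have := mem_grSet_G2.1 (e ▸ (⟨h1, g, h2⟩ : π ∈ chevG2.GrSet F))
    rw [ringChar.eq F 2] at this
    omega
  obtain ⟨c, rfl⟩ := Finite.injective_iff_surjective.1
    ((MonoidHom.ker_eq_bot_iff _).1 ((chevG2.ker_cartanHom F).trans (ker_torus_G2 F))) c
  rw [h2.unique isGrE_one, diagAut_cartanHom, one_mul, ← mul_assoc, ← map_mul]
  exact ⟨_, _, rfl⟩

theorem G2_zv [CharP F 2] : ZV (chevG2.group F) := by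
  refine ZV.of_one (G2_syl F) fun β _ _ hf => ?_
  obtain ⟨x, σ, rfl⟩ := G2_aut β
  have top : ∀ t, ∀ u ∈ chevG2.posUnipotent F, Commute u (chevG2.X F 11 t) := fun t u hu => commute_top_U hu t
  have h1 : ∀ t, x * 𝐱 11 (σ t) * x⁻¹ = 𝐱 11 t := fun t => by
    have := hf (𝐱 11 t) (G2_mem (by decide) (by decide) t) (mem_CC.2 fun u hu => Subtype.ext (top t u hu))
      (G2_sq (by decide) t)
    rwa [MulAut.mul_apply, fieldAutHom_XG, MulAut.conj_apply] at this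
  have h2 : (x : GL chevG2.Idx F) ∈ chevG2.posUnipotent F ⊔ chevG2.rootSubgroup F 4 := by
    rw [← S2180.aux1]
    refine ⟨x.2, mem_centralizer_singleton_iff.2 ?_⟩
    have := h1 1
    rw [map_one, mul_inv_eq_iff_eq_mul] at this
    exact congrArg Subtype.val this
  obtain rfl : σ = 1 := RingEquiv.ext fun t => by
    have h3 : chevG2.posUnipotent F ⊔ chevG2.rootSubgroup F 4 ≤ centralizer {chevG2.X F 11 (σ t)} :=
      sup_le (fun u hu => mem_centralizer_singleton_iff.2 (top _ u hu)) (rootSubgroup_le_iff.2 fun s =>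
        mem_centralizer_singleton_iff.2 (X_commute2' (by decide +kernel) _ _))
    have h4 : x * 𝐱 11 (σ t) = 𝐱 11 (σ t) * x := Subtype.ext (mem_centralizer_singleton_iff.1 (h3 h2))
    exact chevG2.XG_injective F ⟨11, by decide⟩ ((mul_inv_eq_iff_eq_mul.2 h4).symm.trans (h1 t))
  rw [map_one, mul_one]
  exact ⟨x * x, map_mul _ _ _⟩

theorem G2_oc [CharP F 2] : OC (chevG2.group F) := by
  have := Perm.RankOne.isCyclic_ringAut F
  have : IsCyclic (Out (chevG2.group F)) := isCyclic_of_surjective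
    ((QuotientGroup.mk' (Inn (chevG2.group F))).comp (chevG2.fieldAutHom F)) fun θ => by
      obtain ⟨θ, rfl⟩ := QuotientGroup.mk_surjective θ
      obtain ⟨x, σ, rfl⟩ := G2_aut θ
      exact ⟨σ, (mk_conj_mul _ _).symm⟩
  exact oc_of_cyclic (MonoidHom.id _) (by simp)

theorem gd_g2 [CharP F 2] (h : 3 ≤ Fintype.card F) :
    NU (Lie.chevG2.group F) ∧ ZV (Lie.chevG2.group F) ∧ OC (Lie.chevG2.group F) :=
  ⟨G2_nu h, G2_zv, G2_oc⟩

end Cfsg.Agent.QF
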