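import Mathlib
import Cfsg.Agent.QF.Defs
import Cfsg.Agent.QE.KM12

/-! # S1849, piece QF-K7: M12 and J2 are not of characteristic 2 type (proof in stubs/Cfsg/Agent/QF/PLAN.md) -/

set_option autoImplicit false
set_option linter.unusedVariables false

namespace Cfsg.Agent.QF

open Cfsg Subgroup Cfsg.Agent.GT Cfsg.Agent.Inv Cfsg.Agent.Cmp Cfsg.Agent.QE
open scoped commutatorElement

universe u

variable {X : Type*} [Group X] [Finite X]

theorem K7_abs {H : Type*} [Group H] [Finite H] (hH : Nat.card H = 240) {b : H} (hb : b ≠ 1)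
    (hz : ∀ x, x * b = b * x) : ¬ centralizer (pCore 2 H : Set H) ≤ pCore 2 H := fun h => by
  have : Fact (Nat.Prime 5) := ⟨by norm_num⟩
  obtain ⟨r, hr⟩ := exists_prime_orderOf_dvd_card' (G := H) 5 (by rw [hH]; norm_num)
  have hQ := isPGroup_pCore (G := H) 2
  have h5 : IsPGroup 5 (zpowers r) := IsPGroup.of_card (n := 1) (by rw [Nat.card_zpowers, hr, pow_one])
  have h1 := card_modEq_card_inf_centralizer (L := pCore 2 H) h5 (by rw [normalizer_eq_top]; exact le_top)
  have h2 : Nat.card (pCore 2 H ⊓ centralizer (zpowers r : Set H) : Subgroup H) ∣ Nat.card (pCore 2 H) :=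
    card_dvd_of_le inf_le_left
  have h3 : Nat.card (pCore 2 H) ∣ 16 := by
    obtain ⟨n, hn⟩ := IsPGroup.iff_card.1 hQ
    have h4 := (pCore 2 H).card_subgroup_dvd_card
    rw [hH, hn, show 240 = 16 * 15 from rfl] at h4
    rw [hn]
    exact (Nat.Coprime.pow_left n (by norm_num)).dvd_of_dvd_mul_right h4
  have h4 : 1 < Nat.card (pCore 2 H ⊓ centralizer (zpowers r : Set H) : Subgroup H) := by
    rw [one_lt_card_iff_ne_bot, ne_bot_iff_exists_ne_one]
    exact ⟨⟨b, h fun x _ => hz x, fun x _ => hz x⟩, fun e => hb (congrArg Subtype.val e)⟩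
  have h6 : Nat.card (pCore 2 H) ≤ Nat.card (pCore 2 H ⊓ centralizer (zpowers r : Set H) : Subgroup H) := by
    generalize Nat.card (pCore 2 H ⊓ centralizer (zpowers r : Set H) : Subgroup H) = c at h1 h2 h4
    generalize Nat.card (pCore 2 H) = m at h1 h2 h3
    have hm := Nat.le_of_dvd (by norm_num) h3
    have hc := Nat.le_of_dvd (by norm_num) (h2.trans h3)
    unfold Nat.ModEq at h1
    interval_cases m <;> interval_cases c <;> simp_all
  have h7 := eq_of_le_of_card_ge inf_le_left h6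
  have h8 : r ∈ pCore 2 H := h fun x hx => ((h7.ge hx).2 r (mem_zpowers r)).symm
  obtain ⟨k, hk⟩ := hQ ⟨r, h8⟩
  have h9 := orderOf_dvd_of_pow_eq_one (show r ^ 2 ^ k = 1 from congrArg Subtype.val hk)
  rw [hr] at h9
  exact absurd ((by norm_num : Nat.Prime 5).dvd_of_dvd_pow h9) (by norm_num)

theorem K7_card {b : X} (hb : orderOf b = 2) (h : Nat.card (C1 b) = 240) : ¬ Loc.Am.IsCharP 2 (C1 b) := fun k =>
  K7_abs h (b := ⟨b, mem_centralizer_singleton_iff.2 rfl⟩)
    (fun e => by rw [show b = 1 from congrArg Subtype.val e, orderOf_one] at hb; omega)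
    (fun x => Subtype.ext (mem_centralizer_singleton_iff.1 x.2)) (Loc.Am.isCharP_iff.1 k)

theorem k7 (h : Spor.IsoM12 X ∨ Spor.IsoJ2 X) : ∃ b : X, orderOf b = 2 ∧ ¬ Loc.Am.IsCharP 2 (C1 b) := by
  rcases h with h | h
  · obtain ⟨e⟩ := h
    have := Spor.Dod.simple_SporM12
    have := e.isSimpleGroup
    have hG : Nat.card X = 95040 := (Nat.card_congr e.toEquiv).trans Spor.Dod.card_SporM12
    obtain ⟨x, A, B, Γ, D, θ, θ', a, b', c, d, h⟩ := M12.exists_st1 hG
    obtain ⟨y, z, E, F, K, S, T, s, t, k⟩ := h.exists_st2 hG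
    exact ⟨z, k.hz, K7_card k.hz k.hCz⟩
  · obtain ⟨e⟩ := id h
    have := Finite.of_equiv _ e.toEquiv
    obtain ⟨s⟩ := JS.exists_stH_J2
    obtain ⟨m, rfl⟩ := s.exists_stM
    have h1 : ¬ IsConj m.z m.t := fun k => by
      have h2 := Rec.J23.card_of_isoJ3 (m.isoJ3 k)
      rw [Rec.J23.card_of_isoJ2 ⟨MulEquiv.refl _⟩] at h2
      omega
    have ht := m.toStH.orderOf_zt.2
    obtain ⟨f⟩ := (m.cent_second h1 m.t ht fun k => h1 k.symm).1
    have h3 : orderOf (e.symm m.t) = 2 := by rwa [e.symm.orderOf_eq]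
    refine ⟨e.symm m.t, h3, K7_card h3 ?_⟩
    rw [← Nat.card_congr (KFI.cenEquiv e.symm m.t).toEquiv, Nat.card_congr f.toEquiv, Nat.card_prod,
      nat_card_alternatingGroup, Nat.card_eq_fintype_card, Nat.card_eq_fintype_card]
    decide

end Cfsg.Agent.QF
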