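import Mathlib
import Cfsg.Agent.QF.Defs
import Cfsg.Agent.QF.Set
import Cfsg.Agent.QF.K0
import Cfsg.Agent.QE.X1
import Cfsg.Agent.S3915

/-! # S1849, piece QF-KL2: the generic members of the list (proof in stubs/Cfsg/Agent/QF/PLAN.md) -/

set_option autoImplicit false
set_option linter.unusedVariables false

namespace Cfsg.Agent.QF

open Cfsg Subgroup Cfsg.Agent.GT Cfsg.Agent.Inv Cfsg.Agent.Cmp Cfsg.Agent.QE
open scoped commutatorElement

universe u

variable {X : Type*} [Group X] [Finite X]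

namespace KL2

omit [Finite X] in
theorem inj (hZ : center X = ⊥) : Function.Injective (MulAut.conj : X →* MulAut X) :=
  (injective_iff_map_eq_one _).2 fun x hx => mem_bot.1 (hZ ▸ mem_center_iff.2 fun g =>
    (mul_inv_eq_iff_eq_mul.1 (DFunLike.congr_fun hx g)).symm)

theorem exists_sylow {β : MulAut X} (hβ : Two β) {x : X} (hx : Two x) (h : β x = x) :
    ∃ U : Sylow 2 X, x ∈ U ∧ ∀ u ∈ U, β u ∈ U := by
  have : Fact (Nat.Prime 2) := ⟨Nat.prime_two⟩
  have h1 : Two (MulAut.conj x) := by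
    obtain ⟨k, hk⟩ := hx
    exact ⟨k, by rw [← map_pow, hk, map_one]⟩
  have h2 : Commute (MulAut.conj x) β := MulEquiv.ext fun y => by simp [h]
  have hB : IsPGroup 2 (zpowers (MulAut.conj x) ⊔ zpowers β : Subgroup (MulAut X)) :=
    h1.isPGroup.to_sup_of_normal_right' hβ.isPGroup (zpowers_le.2 (CC_le_NN _ (mem_CC.2 fun k hk => by
      obtain ⟨n, rfl⟩ := mem_zpowers_iff.1 hk
      exact h2.symm.zpow_left n)))
  obtain ⟨U, hU⟩ := hB.nonempty_fixed_point_of_prime_not_dvd_card (Sylow 2 X) (not_dvd_card_sylow 2 X)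
  have h3 : x • U = U := hU ⟨_, mem_sup_left (mem_zpowers _)⟩
  have h4 : β • U = U := hU ⟨_, mem_sup_right (mem_zpowers _)⟩
  refine ⟨U, ?_, fun u hu => ?_⟩
  · have h5 := hx.isPGroup.inf_normalizer_sylow U
    exact (h5.le ⟨mem_zpowers x, Sylow.smul_eq_iff_mem_normalizer.1 h3⟩).2
  · rw [← h4]
    exact ⟨u, hu, rfl⟩

variable (hZ : center X = ⊥) (h : Gd X) {α : MulAut X} {I : Subgroup X} (c : Cp α I)
include hZ h c

theorem eq_one {b : X} (h2 : b * b = 1) (hb : α b = b) (hI : I ≤ C1 b) : b = 1 :=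
  by_contra fun h1 => x1 hZ c.sq hb
    (charP_of_loc h.loc (orderOf_eq_prime (by rw [pow_two, h2]) h1)) c.comp hI

theorem inn_eq_one {δ : MulAut X} (hδ : δ ∈ Inn X) (h2 : δ * δ = 1) (hc : Commute α δ)
    (hI : ∀ x ∈ I, δ x = x) : δ = 1 := by
  obtain ⟨b, rfl⟩ := hδ
  have h3 : α b = b := inj hZ (by
    rw [show MulAut.conj (α b) = α * MulAut.conj b * α⁻¹ from MulEquiv.ext fun y => by simp,
      hc.eq, mul_inv_cancel_right])
  rw [eq_one hZ h c (inj hZ (by rw [map_mul, h2, map_one])) h3 fun x hx =>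
    mem_C1.2 (comm_of_conj_eq (hI x hx)).symm, map_one]

theorem not_inn : α ∉ Inn X := fun hi =>
  c.ne (inn_eq_one hZ h c hi c.sq (.refl α) fun x hx => c.comp.1 hx)

theorem invol {γ : MulAut X} (h2 : γ * γ = 1) (hc : Commute α γ) (hI : ∀ x ∈ I, γ x = x) :
    γ = 1 ∨ γ = α := by
  rcases h.oc α γ I c h2 hc hI with h1 | h1 | h1
  · exact absurd h1 (not_inn hZ h c)
  · exact .inl (inn_eq_one hZ h c h1 h2 hc hI)
  · have h3 := inn_eq_one hZ h c h1
      (by rw [mul_assoc, ← mul_assoc γ, ← hc.eq, mul_assoc, h2, mul_one, c.sq])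
      ((Commute.refl α).mul_right hc)
      fun x hx => by rw [MulAut.mul_apply, hI x hx]; exact c.comp.1 hx
    exact .inr (mul_left_cancel (h3.trans c.sq.symm))

theorem no_root {β : MulAut X} (h2 : β * β = α) (hI : ∀ x ∈ I, β x = x) : False := by
  have hβ : Two β := ⟨2, by rw [show β ^ 2 ^ 2 = (β * β) * (β * β) by simp [pow_succ, mul_assoc],
    h2, c.sq]⟩
  have hαβ : ∀ v, α v = β (β v) := fun v => by rw [← h2]; rfl
  have hαα : ∀ v, α (α v) = v := fun v => DFunLike.congr_fun c.sq v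
  obtain ⟨x, hx, ⟨k, hk⟩, hx'⟩ := S3915.exists_two_elt c.comp.isQuasisimple
  obtain ⟨U, hxU, hU⟩ := exists_sylow hβ ⟨k, by rw [← hk, pow_orderOf_eq_one]⟩ (hI x hx)
  let V : X → Prop := fun v => v ∈ U ∧ v ∈ CC (U : Subgroup X) ∧ v * v = 1
  have Vβ : ∀ v, V v → V (β v) := fun v hv => ⟨hU v hv.1, mem_CC.2 fun u hu => by
    have := (comm_of_CC hv.2.1 (hU _ (hU _ (hU u hu)))).map β
    rwa [← hαβ, ← hαβ, hαα] at this, by rw [← map_mul, hv.2.2, map_one]⟩
  have Vc : ∀ v w, V v → V w → Commute v w := fun v w hv hw => comm_of_CC hw.2.1 hv.1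
  have Vm : ∀ v w, V v → V w → V (v * w) := fun v w hv hw =>
    ⟨mul_mem hv.1 hw.1, mul_mem hv.2.1 hw.2.1, by
      rw [mul_assoc, ← mul_assoc w, ← (Vc v w hv hw).eq, mul_assoc, hw.2.2, mul_one, hv.2.2]⟩
  have c1 : ∀ v, V v → α v = v → β v = v := by
    intro v hv hα
    have hn : v ∈ NN I := mem_NN_of_fix (Y := zpowers x) c.comp hα (zpowers_le.2 hx)
      (fun k => hx' (k (mem_zpowers x)))
      (centralizer_le (zpowers_le.2 hxU : zpowers x ≤ U) hv.2.1)
    have h3 := eq_one hZ h c (Vm _ _ hv (Vβ v hv)).2.2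
      (by rw [map_mul, hα, hαβ, ← hαβ v, hα]) fun y hy => mem_C1.2 (by
        have h4 := hI _ ((mem_normalizer_iff.1 hn y).1 hy)
        rw [map_mul, map_mul, hI y hy, map_inv] at h4
        have h5 : v⁻¹ = v := inv_eq_of_mul_eq_one_right hv.2.2
        refine (comm_of_conj_eq ?_).symm
        calc v * β v * y * (v * β v)⁻¹ = v * (β v * y * (β v)⁻¹) * v⁻¹ := by group
          _ = (v * v) * y * (v * v)⁻¹ := by rw [h4]; group
          _ = y := by rw [hv.2.2]; group)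
    exact mul_left_cancel (h3.trans hv.2.2.symm)
  refine not_inn hZ h c (h2 ▸ h.zv U β hβ hU fun v h3 h4 h5 => ?_)
  have hv : V v := ⟨h3, h4, h5⟩
  have v1 := Vβ v hv
  have v2 : V (α v) := hαβ v ▸ Vβ _ v1
  have v3 := Vβ _ v2
  have e2 : β (v * α v) = v * α v :=
    c1 _ (Vm _ _ hv v2) (by rw [map_mul, hαα]; exact (Vc _ _ v2 hv).eq)
  have e1 : β (v * β v) = v * β v := by
    refine c1 _ (Vm _ _ hv v1) (mul_left_cancel (a := v * β v) ?_)
    rw [(Vm _ _ hv v1).2.2, map_mul, hαβ (β v), ← hαβ v, mul_assoc, ← mul_assoc (β v),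
      (Vc _ _ v1 v2).eq, mul_assoc, ← mul_assoc, ← map_mul, e2, (Vm _ _ hv v2).2.2]
  rw [map_mul, ← hαβ, (Vc _ _ hv v1).eq] at e1
  exact c1 v hv (mul_left_cancel e1)

end KL2

theorem Gd.pu (hZ : center X = ⊥) (h : Gd X) {α : MulAut X} {I : Subgroup X} (c : Cp α I) : PU α I := by
  refine ⟨fun U hU hi => KL2.not_inn hZ h c (h.ix U α c.sq hU hi), fun β hβ => ?_, h.z4⟩
  obtain ⟨k, hk⟩ := hβ
  induction k generalizing β with
  | zero => exact fun _ _ => .inl (by simpa using hk)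
  | succ k ih =>
    intro hc hI
    rcases ih (β * β) (by rw [← pow_two, ← pow_mul, ← pow_succ', hk]) (hc.mul_right hc)
      (fun x hx => by rw [MulAut.mul_apply, hI x hx, hI x hx]) with h1 | h1
    · exact KL2.invol hZ h c h1 hc hI
    · exact (KL2.no_root hZ h c h1 hI).elim

end Cfsg.Agent.QF
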