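import Mathlib
import Cfsg.Agent.QF.Defs
import Cfsg.Agent.S3224
import Cfsg.Agent.GT.PGroupMaxTwo
import Cfsg.Agent.Dz.Red

/-! # S1849, piece QF-MC: a normal 2-subgroup of maximal class (proof in stubs/Cfsg/Agent/QF/PLAN.md) -/

set_option autoImplicit false
set_option linter.unusedVariables false

namespace Cfsg.Agent.QF

open Cfsg Subgroup Cfsg.Agent.GT Cfsg.Agent.Inv Cfsg.Agent.Cmp Cfsg.Agent.QE
open scoped commutatorElement

universe u

namespace MC

variable {H : Type*} [Group H]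

theorem cyc_mem [Finite H] {a x y : H} (hx : x ∈ zpowers a) (hy : y ∈ zpowers a)
    (h : x ^ orderOf y = 1) : x ∈ zpowers y := by
  classical
  have := Fintype.ofFinite (zpowers a)
  have hn : orderOf (⟨y, hy⟩ : zpowers a) = orderOf y := orderOf_mk y hy
  have h1 := IsCyclic.card_pow_eq_one_le (α := zpowers a) (orderOf_pos y)
  have h2 : (zpowers (⟨y, hy⟩ : zpowers a) : Set (zpowers a)).toFinset =
      Finset.univ.filter fun g : zpowers a => g ^ orderOf y = 1 := by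
    refine Finset.eq_of_subset_of_card_le (fun g hg => ?_) (h1.trans ?_)
    · obtain ⟨k, rfl⟩ := mem_zpowers_iff.1 (Set.mem_toFinset.1 hg)
      rw [Finset.mem_filter, ← hn, ← zpow_natCast, ← zpow_mul, mul_comm, zpow_mul, zpow_natCast,
        pow_orderOf_eq_one, one_zpow]
      exact ⟨Finset.mem_univ _, rfl⟩
    · rw [Set.toFinset_card, ← Nat.card_eq_fintype_card, ← hn, ← Nat.card_zpowers]; rfl
  have h3 : (⟨x, hx⟩ : zpowers a) ∈ Finset.univ.filter fun g : zpowers a => g ^ orderOf y = 1 :=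
    Finset.mem_filter.2 ⟨Finset.mem_univ _, Subtype.ext h⟩
  rw [← h2, Set.mem_toFinset] at h3
  obtain ⟨k, hk⟩ := mem_zpowers_iff.1 h3
  exact mem_zpowers_iff.2 ⟨k, congrArg Subtype.val hk⟩

theorem eq_of_two [Finite H] {a x y : H} (hx : x ∈ zpowers a) (hy : y ∈ zpowers a)
    (x2 : orderOf x = 2) (y2 : orderOf y = 2) : x = y := by
  classical
  obtain ⟨k, hk, e⟩ := (mem_powers_iff_mem_range_orderOf (x := y) (y := x)).1
    ((mem_powers_iff_mem_zpowers).2 (cyc_mem hx hy (by rw [y2, ← x2, pow_orderOf_eq_one]))) |>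
      Finset.mem_image.1
  rw [y2, Finset.mem_range] at hk
  interval_cases k
  · rw [← e, pow_zero, orderOf_one] at x2; omega
  · rw [← e, pow_one]

theorem eq_of_four [Finite H] {a x y : H} (hx : x ∈ zpowers a) (hy : y ∈ zpowers a)
    (x4 : orderOf x = 4) (y4 : orderOf y = 4) : x = y ∨ x = y⁻¹ := by
  classical
  obtain ⟨k, hk, e⟩ := (mem_powers_iff_mem_range_orderOf (x := y) (y := x)).1
    ((mem_powers_iff_mem_zpowers).2 (cyc_mem hx hy (by rw [y4, ← x4, pow_orderOf_eq_one]))) |>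
      Finset.mem_image.1
  have h4 : y ^ 4 = 1 := by rw [← y4, pow_orderOf_eq_one]
  rw [y4, Finset.mem_range] at hk
  interval_cases k
  · rw [← e, pow_zero, orderOf_one] at x4; omega
  · exact .inl (by rw [← e, pow_one])
  · have : orderOf x ∣ 2 := orderOf_dvd_of_pow_eq_one (by rw [← e, ← pow_mul, h4])
    rw [x4] at this; omega
  · exact .inr (eq_inv_of_mul_eq_one_left (by rw [← e, ← pow_succ, h4]))

theorem core {m : ℕ} {a b : H} (h : PG.MaxTwo m a b)
    (h1 : 2 ≤ m ∨ (b ^ 2 = 1 ∧ b * a * b⁻¹ = a⁻¹)) :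
    ∃ c ∈ zpowers a, orderOf c = 4 ∧ c ^ 2 = a ^ 2 ^ m ∧
      ∀ φ : MulAut H, φ c = c ∨ φ c = c⁻¹ := by
  have := h.finite
  obtain ⟨k, rfl⟩ : ∃ k, m = k + 1 := ⟨m - 1, by have := h.one_le; omega⟩
  have c4 : orderOf (a ^ 2 ^ k) = 4 := by
    rw [PG.orderOf_pow_prime_pow two_pos h.orderOf_eq (by omega), show k + 1 + 1 - k = 2 by omega]
    rfl
  have hc : a ^ 2 ^ k ∈ zpowers a := pow_mem (mem_zpowers a) _
  refine ⟨_, hc, c4, by rw [← pow_mul, ← pow_succ], fun φ => ?_⟩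
  have φ4 : orderOf (φ (a ^ 2 ^ k)) = 4 := by rw [MulEquiv.orderOf_eq, c4]
  refine eq_of_four ?_ hc φ4 c4
  rcases h1 with h1 | h1
  · obtain ⟨j, rfl⟩ : ∃ j, k = j + 1 := ⟨k - 1, by omega⟩
    have h2 : a ^ 2 ^ (j + 1) ∈ _root_.commutator H := by
      rw [h.commutator_eq, pow_succ' 2 j, pow_mul]; exact pow_mem (mem_zpowers _) _
    have h3 : φ (a ^ 2 ^ (j + 1)) ∈ _root_.commutator H :=
      characteristic_iff_map_le.1 inferInstance φ (mem_map_of_mem _ h2)
    rw [h.commutator_eq] at h3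
    exact (zpowers_le.2 (pow_mem (mem_zpowers a) 2) : zpowers (a ^ 2) ≤ _) h3
  · by_contra hn
    obtain ⟨i, hi⟩ := h.exists_eq_of_notMem hn
    have h2 : (b * a ^ i) ^ 2 = (b * a * b⁻¹) ^ i * b ^ 2 * a ^ i := by
      rw [conj_zpow]; simp only [pow_two]; group
    rw [h1.1, h1.2, mul_one, inv_zpow, inv_mul_cancel, ← hi] at h2
    have := orderOf_dvd_of_pow_eq_one h2
    rw [φ4] at this; omega

theorem card_four [Finite H] {y z : H} (y2 : orderOf y = 2) (z2 : orderOf z = 2) (hne : y ≠ z)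
    (hc : Commute z y) (hC : ∀ q, Commute q y → q = 1 ∨ q = y ∨ q = z ∨ q = y * z) :
    Nat.card (centralizer ({y} : Set H)) = 4 := by
  have y1 : y ≠ 1 := fun e => by rw [e, orderOf_one] at y2; omega
  have z1 : z ≠ 1 := fun e => by rw [e, orderOf_one] at z2; omega
  have zz : z * z = 1 := by rw [← pow_two, ← z2, pow_orderOf_eq_one]
  have h3 : y * z ≠ 1 := fun e => hne (mul_right_cancel (e.trans zz.symm))
  have e : (centralizer ({y} : Set H) : Set H) = {1, y, z, y * z} := by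
    ext q
    simp only [SetLike.mem_coe, mem_centralizer_singleton_iff, Set.mem_insert_iff,
      Set.mem_singleton_iff]
    refine ⟨hC q, ?_⟩
    rintro (rfl | rfl | rfl | rfl)
    · simp
    · rfl
    · exact hc
    · exact (Commute.refl y).mul_left hc
  change Nat.card (centralizer ({y} : Set H) : Set H) = 4
  rw [e, Nat.card_coe_set_eq, Set.ncard_insert_of_notMem (by simp [y1.symm, z1.symm, h3.symm]),
    Set.ncard_insert_of_notMem (by simp [hne, z1]), Set.ncard_pair (by simp [y1])]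

end MC

variable {G : Type u} [Group G] [Finite G] {T L J D K M S : Subgroup G} {z y : G}

theorem mc {Q : Subgroup G} (hT : IsPGroup 2 T) (hQ : Q ≤ T) (hn : T ≤ NN Q) (hy : y ∈ Q)
    (y2 : orderOf y = 2) (hz : z ∈ Q) (z2 : orderOf z = 2) (zc : T ≤ C1 z) (hne : y ≠ z)
    (hC : ∀ q ∈ Q, Commute q y → q = 1 ∨ q = y ∨ q = z ∨ q = y * z) (hi : ¬ (C1 y).relIndex T ≤ 2) :
    ∃ a ∈ Q, ∃ c ∈ zpowers a, (zpowers a).relIndex Q = 2 ∧ orderOf c = 4 ∧ c ^ 2 = z ∧
      (∀ t ∈ T, t * c * t⁻¹ = c ∨ t * c * t⁻¹ = c⁻¹) ∧ y * c * y⁻¹ = c⁻¹ := by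
  have : Fact (Nat.Prime 2) := ⟨Nat.prime_two⟩
  have y1 : y ≠ 1 := fun e => by rw [e, orderOf_one] at y2; omega
  have yy : y * y = 1 := by rw [← pow_two, ← y2, pow_orderOf_eq_one]
  have zz : z * z = 1 := by rw [← pow_two, ← z2, pow_orderOf_eq_one]
  have hzc : ∀ t ∈ T, t * z * t⁻¹ = z := fun t ht => by
    rw [(mem_C1.1 (zc ht)).eq, mul_inv_cancel_right]
  have hna : ¬ ∀ q ∈ Q, Commute q y := by
    intro hall
    have key : ∀ t ∈ T, t ∈ C1 y ∨ t * y * t⁻¹ = y * z := by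
      intro t ht
      have h1 := (mem_normalizer_iff.1 (hn ht) y).1 hy
      rcases hC _ h1 (hall _ h1) with e | e | e | e
      · exact absurd (by simpa using e) y1
      · exact .inl (mem_C1.2 (mul_inv_eq_iff_eq_mul.1 e))
      · rw [← hzc t ht] at e
        exact absurd (by simpa using e) hne
      · exact .inr e
    refine hi (Nat.le_of_dvd two_pos (relIndex_dvd_two_iff.2 ?_))
    by_cases h0 : ∀ t ∈ T, t ∈ C1 y
    · exact ⟨1, one_mem _, fun b hb => .inr (h0 b hb)⟩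
    push Not at h0
    obtain ⟨a, ha, ha'⟩ := h0
    refine ⟨a, ha, fun b hb => (key b hb).symm.imp_left fun e => mem_C1.2 ?_⟩
    have h1 : b * a * y * (b * a)⁻¹ = (b * y * b⁻¹) * (b * z * b⁻¹) := by
      rw [show b * a * y * (b * a)⁻¹ = b * (a * y * a⁻¹) * b⁻¹ by group,
        (key a ha).resolve_left ha']
      group
    rw [e, hzc b hb, mul_assoc y z z, zz, mul_one] at h1
    exact mul_inv_eq_iff_eq_mul.1 h1
  have hQ2 : IsPGroup 2 Q := hT.to_le hQ
  have hna' : ¬ IsMulCommutative Q := fun h => hna fun q hq =>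
    congrArg Subtype.val (h.is_comm.comm (⟨q, hq⟩ : Q) ⟨y, hy⟩)
  have y2' : orderOf (⟨y, hy⟩ : Q) = 2 := by rw [orderOf_mk, y2]
  have z2' : orderOf (⟨z, hz⟩ : Q) = 2 := by rw [orderOf_mk, z2]
  have h4 : Nat.card (centralizer ({⟨y, hy⟩} : Set Q)) = 4 := by
    refine MC.card_four y2' z2' (fun e => hne (congrArg Subtype.val e))
      (Subtype.ext (mem_C1.1 (zc (hQ hy))).symm.eq) fun q hq => ?_
    simpa only [Subtype.ext_iff, coe_one, coe_mul] using hC q q.2 (congrArg Subtype.val hq.eq)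
  obtain ⟨m, a, b, h, h1⟩ : ∃ (m : ℕ) (a b : Q), PG.MaxTwo m a b ∧
      (2 ≤ m ∨ (b ^ 2 = 1 ∧ b * a * b⁻¹ = a⁻¹)) := by
    rcases S3224.result hQ2 _ y2' h4 with ⟨n, ⟨e⟩⟩ | hq | hq
    · obtain ⟨m, a, b, -, h, h1⟩ := PG.exists_maxTwo_of_dihedral' hQ2 hna' e
      exact ⟨m, a, b, h, .inr h1⟩
    · obtain ⟨m, a, b, h1, h, -⟩ := PG.exists_maxTwo_of_isQuasiDihedral hq
      exact ⟨m, a, b, h, .inl h1⟩
    · have ht := eq_top_of_card_eq _ (h4.trans hq.symm)
      exact absurd (fun q hq' => congrArg Subtype.val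
        (mem_centralizer_singleton_iff.1 (ht.ge (mem_top (⟨q, hq'⟩ : Q))))) hna
  obtain ⟨c, hc, c4, c2, hφ⟩ := MC.core h h1
  have c4' : orderOf (c : G) = 4 := by rw [orderOf_coe, c4]
  have hz' : (⟨z, hz⟩ : Q) = a ^ 2 ^ m :=
    (h.mem_center_iff.1 (mem_center_iff.2 fun g =>
      Subtype.ext (mem_C1.1 (zc (hQ g.2))).eq)).resolve_left fun e => by
        rw [e, orderOf_one] at z2'; omega
  have hT' : ∀ t ∈ T, t * c * t⁻¹ = c ∨ t * c * t⁻¹ = (c : G)⁻¹ := fun t ht =>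
    (hφ (Q.normalizerMonoidHom ⟨t, hn ht⟩)).imp (congrArg Subtype.val) (congrArg Subtype.val)
  refine ⟨a, a.2, c, ?_, ?_, c4', congrArg Subtype.val (c2.trans hz'.symm), hT', ?_⟩
  · obtain ⟨k, rfl⟩ := mem_zpowers_iff.1 hc
    exact zpow_mem (mem_zpowers _) k
  · rw [← h.index_eq, relIndex]
    congr 1
    ext g
    simp only [mem_subgroupOf, mem_zpowers_iff, Subtype.ext_iff, coe_zpow]
  · refine (hT' y (hQ hy)).resolve_left fun e => ?_
    have h5 : (c : G) ^ 2 = 1 := by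
      rcases hC c c.2 (mul_inv_eq_iff_eq_mul.1 e).symm with e1 | e1 | e1 | e1 <;> rw [e1, pow_two]
      · simp
      · exact yy
      · exact zz
      · rw [mul_assoc, ← mul_assoc z, ← (mem_C1.1 (zc (hQ hy))).eq, mul_assoc, zz, mul_one, yy]
    have := orderOf_dvd_of_pow_eq_one h5
    rw [c4'] at this; omega

theorem no_cyc (hJ : ⁅J, J⁆ = J) (hS : Syl S J) (h4 : Four J) {a : G} {Q : Subgroup G} (hQ : S ≤ Q)
    (hi : (zpowers a).relIndex Q = 2) (hz : z ∈ zpowers a) (z2 : orderOf z = 2) (zc : z ∈ CC J) : False := by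
  obtain ⟨w, hw, w2, hw'⟩ : ∃ w ∈ S, orderOf w = 2 ∧ w ∉ zpowers a := by
    obtain ⟨u, hu, v, hv, u2, v2, hne, -⟩ := hS.four h4
    by_cases h : u ∈ zpowers a
    · exact ⟨v, hv, v2, fun h' => hne (MC.eq_of_two h h' u2 v2)⟩
    · exact ⟨u, hu, u2, h⟩
  have h1 : (zpowers a).relIndex S = 2 := by
    have h2 := relIndex_le_of_le_right (H := zpowers a) hQ (by omega)
    have h3 : (zpowers a).relIndex S ≠ 0 := index_ne_zero_of_finite
    have h5 : (zpowers a).relIndex S ≠ 1 := fun e => hw' (relIndex_eq_one.1 e hw)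
    omega
  have ww : (⟨w, hS.le hw⟩ : J) ^ 2 = 1 := Subtype.ext (by
    rw [coe_pow, ← w2]; exact pow_orderOf_eq_one w)
  rcases Dz.thompson_ext (G := J) (H := S.subgroupOf J) (T := (zpowers a).subgroupOf J) (C := ⊥)
    hS.idx (by rw [relIndex_subgroupOf hS.le, h1]) ww IsPGroup.of_bot
    (fun x hx => by rw [mem_bot.1 hx, one_mul, mul_one]) with ⟨N, hN, hd⟩ | ⟨t, -, ht, -⟩
  · have h2 : ⁅J, J⁆ ≤ N.map J.subtype := commutator_le.2 fun u hu v hv =>
      ⟨⁅(⟨u, hu⟩ : J), ⟨v, hv⟩⁆, by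
        simp only [commutatorElement_def, SetLike.mem_coe, mul_mem_iff_of_index_two hN,
          inv_mem_iff]
        tauto, rfl⟩
    obtain ⟨d, hd', e⟩ := h2 (hJ.ge (hS.le hw))
    exact hd (by rwa [show (⟨w, hS.le hw⟩ : J) = d from Subtype.ext e.symm])
  · have h2 : (t : G)⁻¹ * w * t = z := MC.eq_of_two (mem_subgroupOf.1 ht) hz
      (by simpa [w2] using orderOf_conj' (t : G)⁻¹ w) z2
    have h3 : w = t * z * (t : G)⁻¹ := by rw [← h2]; group
    rw [mem_centralizer_iff.1 zc t t.2, mul_inv_cancel_right] at h3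
    exact hw' (h3 ▸ hz)

end Cfsg.Agent.QF
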