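import Mathlib
import Cfsg.Agent.QF.Defs
import Cfsg.Agent.QF.Set
import Cfsg.Agent.QF.MC
import Cfsg.Agent.Dz.Red

/-! # S1849, piece QF-Main: the generic case (proof in stubs/Cfsg/Agent/QF/PLAN.md) -/

set_option autoImplicit false
set_option linter.unusedVariables false
set_option linter.unusedSectionVars false

namespace Cfsg.Agent.QF

open Cfsg Subgroup Cfsg.Agent.GT Cfsg.Agent.Inv Cfsg.Agent.Cmp Cfsg.Agent.QE
open scoped commutatorElement

universe u

variable {G : Type u} [Group G] [Finite G] {T L J D K M S : Subgroup G} {z y : G}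

namespace MainAux

theorem card_split (H K : Subgroup G) :
    H.relIndex K * Nat.card (K ⊓ H : Subgroup G) = Nat.card K := by
  have h1 := (H.subgroupOf K).index_mul_card
  have h2 : Nat.card (H.subgroupOf K) = Nat.card (K ⊓ H : Subgroup G) := by
    rw [← inf_subgroupOf_left H K]
    exact Nat.card_congr (subgroupOfEquivOfLe (inf_le_left : K ⊓ H ≤ K)).toEquiv
  rw [h2] at h1
  exact h1

/-- Step (1): the index of `C_T(y)` in `T` exceeds 2. -/
theorem idx_big (h : Mx T L z y) (p : Pm L J z y) {R : Subgroup G} (hP : T ⊓ C1 y ≤ R)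
    (hR : IsPGroup 2 R) (hz : z ∈ R) (hn : R ≤ NN J) (hS : Syl (R ⊓ J) J) :
    ¬ (C1 y).relIndex T ≤ 2 := by
  intro hi
  apply p.idx R hR hz hn hS
  have h1 := card_split (C1 y) T
  have h2 := card_split (C1 z) R
  have h3 : Nat.card R ≤ Nat.card T := h.syl.card_le hR le_top
  have h4 : Nat.card (T ⊓ C1 y : Subgroup G) ≤ Nat.card (R ⊓ C1 z : Subgroup G) :=
    card_le_of_le (le_inf hP (inf_le_left.trans h.zc))
  have h5 : 0 < Nat.card (R ⊓ C1 z : Subgroup G) := Nat.card_pos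
  have h6 : (C1 z).relIndex R ≤ 2 := by
    refine Nat.le_of_mul_le_mul_right ?_ h5
    rw [h2]
    calc Nat.card R ≤ Nat.card T := h3
      _ = _ := h1.symm
      _ ≤ _ := Nat.mul_le_mul hi h4
  refine le_trans (relIndex_le_of_le_right inf_le_left ?_) h6
  exact Subgroup.FiniteIndex.index_ne_zero

/-- Step (2): the centralizer of `y` in `Q = C_T(L)` is the four-group `⟨y, z⟩`. -/
theorem four_cen (g : Gq G) (h : Mx T L z y) (p : Pm L J z y) (hlt : ¬ T ≤ C1 y) :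
    ∀ q ∈ T ⊓ CC L, Commute q y → q = 1 ∨ q = y ∨ q = z ∨ q = y * z := by
  obtain ⟨t, tT, tn, ht⟩ := h.ti g p.le p.nJ p.bad hlt
  have tL : t ∈ NN (CC L) :=
    normalizer_le_normalizer_set_centralizer _ (h.toCt.nrm g (h.zc tT))
  have hJL : CC J ≤ CC L := centralizer_anti p.le
  have zz : z * z = 1 := by rw [← pow_two, ← h.z2, pow_orderOf_eq_one]
  have zi : z⁻¹ = z := inv_eq_of_mul_eq_one_right zz
  have cen : ∀ q ∈ T ⊓ C1 y, q ∈ CC L → q ∈ CC J ∨ q * z ∈ CC J := fun q hq hL =>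
    p.cen q hL hq.2 (Two.of_mem h.syl.two hq.1) (mem_C1.1 (h.zc hq.1))
  have key : ∀ u ∈ T ⊓ C1 y, u ∈ CC J → u ≠ 1 → t * u * t⁻¹ * z ∈ CC J := by
    intro u hu hJ h1
    rcases cen _ (conj_mem_of_mem_normalizer tn hu) (conj_mem_of_mem_normalizer tL (hJL hJ)) with
      h2 | h2
    · exact absurd (ht u hu hJ h2) h1
    · exact h2
  have yP : y ∈ T ⊓ C1 y := ⟨h.yT, mem_C1.2 (Commute.refl y)⟩
  have yJ : y ∈ CC J := mem_CC.2 fun k hk => mem_C1.1 (p.Jy hk)
  have y1 : y ≠ 1 := by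
    intro e
    have := h.bad.1
    rw [e, orderOf_one] at this
    exact absurd this (by decide)
  have uniq : ∀ u ∈ T ⊓ C1 y, u ∈ CC J → u = 1 ∨ u = y := by
    intro u hu hJ
    by_cases h1 : u = 1
    · exact Or.inl h1
    right
    have h2 := mul_mem (key u hu hJ h1) (inv_mem (key y yP yJ y1))
    have h3 : t * u * t⁻¹ * z * (t * y * t⁻¹ * z)⁻¹ = t * (u * y⁻¹) * t⁻¹ := by group
    rw [h3] at h2
    exact mul_inv_eq_one.1 (ht _ (mul_mem hu (inv_mem yP)) (mul_mem hJ (inv_mem yJ)) h2)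
  have zP : z ∈ T ⊓ C1 y := ⟨h.zT, mem_C1.2 (mem_C1.1 (h.zc h.yT)).symm⟩
  intro q hq hc
  have qP : q ∈ T ⊓ C1 y := ⟨hq.1, mem_C1.2 hc⟩
  rcases cen q qP hq.2 with h1 | h1
  · rcases uniq q qP h1 with e | e
    · exact Or.inl e
    · exact Or.inr (Or.inl e)
  · rcases uniq _ (mul_mem qP zP) h1 with e | e
    · refine Or.inr (Or.inr (Or.inl ?_))
      rw [eq_inv_of_mul_eq_one_left e, zi]
    · refine Or.inr (Or.inr (Or.inr ?_))
      rw [← e, mul_assoc, zz, mul_one]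

theorem relIndex_two {c : G} (c4 : orderOf c = 4) (hy : y ∈ T)
    (hc : ∀ t ∈ T, t * c * t⁻¹ = c ∨ t * c * t⁻¹ = c⁻¹) (yc : y * c * y⁻¹ = c⁻¹) :
    (C1 c).relIndex T = 2 := by
  have cne : c⁻¹ ≠ c := by
    intro e
    have h1 : c ^ 2 = 1 := by rw [pow_two]; nth_rewrite 1 [← e]; exact inv_mul_cancel c
    have h2 := orderOf_dvd_of_pow_eq_one h1
    rw [c4] at h2
    exact absurd h2 (by decide)
  refine relIndex_eq_two_iff.2 ⟨y, hy, fun b hb => ?_⟩
  have e : b * y * c * (b * y)⁻¹ = (b * c * b⁻¹)⁻¹ := by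
    calc b * y * c * (b * y)⁻¹ = b * (y * c * y⁻¹) * b⁻¹ := by group
      _ = _ := by rw [yc]; group
  rcases hc b hb with h1 | h1
  · refine Or.inr ⟨mem_C1.2 (comm_of_conj_eq h1), fun h2 => cne ?_⟩
    rw [← conj_eq_of_comm (mem_C1.1 h2), e, h1, inv_inv]
    exact (conj_eq_of_comm (mem_C1.1 h2)).symm.trans (e.trans (by rw [h1]))
  · refine Or.inl ⟨mem_C1.2 (comm_of_conj_eq ?_), fun h2 => cne ?_⟩
    · rw [e, h1, inv_inv]
    · rw [← h1]
      exact conj_eq_of_comm (mem_C1.1 h2)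

theorem no_index_two (g : Gq G) {N : Subgroup G} (hN : N.index = 2) : False := by
  have := g.gl.simple
  rcases (normal_of_index_eq_two hN).eq_bot_or_eq_top with e | e
  · rw [e, index_bot] at hN
    have : Fact (Nat.Prime 2) := ⟨Nat.prime_two⟩
    have : IsCyclic G := isCyclic_of_prime_card hN
    exact g.nab inferInstance
  · rw [e, index_top] at hN
    exact absurd hN (by decide)

end MainAux

open MainAux in
theorem Mx.main (g : Gq G) (h : Mx T L z y) (h4 : Four L) (p : Pm L J z y) : False := by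
  have TL : T ≤ NN L := h.zc.trans (h.toCt.nrm g)
  have hPJ : T ⊓ C1 y ≤ C1 y ⊓ NN J :=
    le_inf inf_le_right ((le_inf inf_le_right (inf_le_left.trans TL)).trans p.nJ)
  obtain ⟨R, hP, hR⟩ := exists_syl_ge (h.syl.two.to_le inf_le_left) hPJ
  have hS : Syl (R ⊓ J) J := hR.inf (le_inf p.Jy le_normalizer) inf_le_right
  have zP : z ∈ T ⊓ C1 y := ⟨h.zT, mem_C1.2 (mem_C1.1 (h.zc h.yT)).symm⟩
  have zR : z ∈ R := hP zP
  have hi := idx_big h p hP hR.two zR (hR.le.trans inf_le_right) hS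
  have hlt : ¬ T ≤ C1 y := fun e => hi (by rw [relIndex_eq_one.2 e]; decide)
  have hC := four_cen g h p hlt
  have TQ : T ≤ NN (T ⊓ CC L) := fun t ht => mem_normalizer_iff_of_finite.2 fun x hx =>
    ⟨T.mul_mem (T.mul_mem ht hx.1) (T.inv_mem ht),
      conj_mem_of_mem_normalizer (normalizer_le_normalizer_set_centralizer _ (TL ht)) hx.2⟩
  have zL : z ∈ CC L := mem_CC.2 fun k hk => mem_C1.1 (h.comp.1 hk)
  have hne : y ≠ z := fun e => h.bad.2.2 (e ▸ h.comp)
  obtain ⟨a, ha, c, hc, ia, c4, cz, hT, yc⟩ := mc (Q := T ⊓ CC L) h.syl.two inf_le_left TQ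
    ⟨h.yT, h.bad.2.1⟩ h.bad.1 ⟨h.zT, zL⟩ h.z2 h.zc hne hC hi
  have i0 := relIndex_two c4 h.yT hT yc
  have iT : ¬ 2 ∣ T.index := by
    have := h.syl.idx
    rwa [relIndex_top_right] at this
  have y2 : y ^ 2 = 1 := by rw [← h.bad.1, pow_orderOf_eq_one]
  rcases Dz.thompson_ext iT i0 y2 hR.two (fun x hx => (mem_C1.1 (hR.le hx).1).eq) with
    ⟨N, hN, -⟩ | ⟨s, -, sy, sR⟩
  · exact no_index_two g hN
  have h' := h.toCt.conj s
  have cy : Commute (s * c * s⁻¹) y := by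
    have h1 := comm_conj s (mem_C1.1 sy)
    have h2 : s * (s⁻¹ * y * s) * s⁻¹ = y := by group
    rw [h2] at h1
    exact h1.symm
  have cz' : (s * c * s⁻¹) ^ 2 = s * z * s⁻¹ := by rw [conj_pow, cz]
  have zJ : s * z * s⁻¹ ∈ CC J := by
    rw [← cz']
    refine p.z4 R _ hR.two zR hR.le hS (mem_C1.2 cy) ?_ fun u hu => ?_
    · rw [conj_pow, ← c4, pow_orderOf_eq_one]; group
    · have e : u * (s * c * s⁻¹) * u⁻¹ = s * (s⁻¹ * u * s * c * (s⁻¹ * u * s)⁻¹) * s⁻¹ := by group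
      rcases hT _ (sR u hu) with h1 | h1
      · left; rw [e, h1]
      · right; rw [e, h1]; group
  have RT : R ≤ T ^ᶜ s := fun x hx => mem_map_conj.2 (sR x hx)
  have JL : J ≤ CC (L ^ᶜ s) := by
    refine p.triv _ _ h'.z2 zJ ?_ (mem_C1.1 (h'.zc (RT zR))).symm
      (fun M hM => g.nrm _ M _ h'.syl h'.z2 h'.zT h'.zc hM) h'.comp (card_map_conj L s)
    rw [← cz']
    exact cy.pow_left 2
  refine no_cyc (a := s * a * s⁻¹) (Q := (T ⊓ CC L) ^ᶜ s) p.perf hS (h4.mono p.le) ?_ ?_ ?_ h'.z2 zJ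
  · intro x hx
    rw [map_conj_inf]
    refine ⟨RT hx.1, ?_⟩
    have := JL hx.2
    rwa [CC, centralizer_map_conj] at this
  · rw [← map_conj_zpowers, relIndex_map_conj, ia]
  · rw [← map_conj_zpowers, conj_mem_map_conj, ← cz]
    exact pow_mem hc 2

end Cfsg.Agent.QF
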