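import Mathlib
import Cfsg.Agent.QF.Defs
import Cfsg.Agent.QF.Set
import Cfsg.Agent.QF.Act
import Cfsg.Agent.QE.PU

/-! # S1849, piece QF-VP: vertical pump-up (proof in stubs/Cfsg/Agent/QF/PLAN.md) -/

set_option autoImplicit false
set_option linter.unusedVariables false

namespace Cfsg.Agent.QF

open Cfsg Subgroup Cfsg.Agent.GT Cfsg.Agent.Inv Cfsg.Agent.Cmp Cfsg.Agent.QE
open scoped commutatorElement

universe u

variable {G : Type u} [Group G] [Finite G] {T L J D K M S : Subgroup G} {z y : G}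

theorem VP_inv {R : Subgroup G} (hz : z ∈ R) (hn : z ∈ NN J) {u : J ⧸ center J} (hu : u ∈ bar J (R ⊓ J)) :
    act J ⟨z, hn⟩ u ∈ bar J (R ⊓ J) := by
  obtain ⟨j, hj, rfl⟩ := mem_bar.1 hu
  exact mem_bar.2 ⟨J.normalizerMonoidHom ⟨z, hn⟩ j,
    ⟨R.mul_mem (R.mul_mem hz hj.1) (R.inv_mem hz), (J.normalizerMonoidHom ⟨z, hn⟩ j).2⟩, rfl⟩

theorem pm_vert (g : Gl G) (z2 : orderOf z = 2) (y2 : orderOf y = 2) (hzy : z ∈ C1 y)
    (hL : IsComponentOf L (C1 z)) (hJ : IsComponentOf J (C1 y)) (hlt : L < J) (hn : z ∈ NN J)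
    (p : PU (act J ⟨z, hn⟩) (bar J L)) : Pm L J z y := by
  have hq := hJ.isQuasisimple
  have perf : ⁅J, J⁆ = J := hq.commutator_eq
  have nJ := vt_nJ hL.isQuasisimple hJ hlt.le
  refine ⟨hlt.le, hJ.le, perf, nJ, fun w hw _ => vt_bad hq hlt hw, fun R hR hz _ hS h => ?_,
    fun q hq1 hq2 hq3 hq4 => ?_, fun R c hR hz hle hS hc c4 hu => ?_, fun w K w2 hw hwy hwz hM hK hc => ?_⟩
  · obtain ⟨U, hU⟩ := syl_bar hS
    refine p.idx U (fun u hu => hU.ge (VP_inv hz hn (hU.le hu))) ?_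
    rw [hU]
    exact (relIndex_bar_le (n := ⟨z, hn⟩) inf_le_right).trans h
  · have qn : q ∈ NN J := nJ ⟨hq2, CC_le_NN _ hq1⟩
    obtain ⟨k, hk⟩ := hq3
    have c1 : Commute (⟨z, hn⟩ : NN J) ⟨q, qn⟩ := Subtype.ext hq4.symm.eq
    refine (p.cen (act J ⟨q, qn⟩) ⟨k, by rw [← map_pow, ← map_one (act J)]; exact congrArg _ (Subtype.ext hk)⟩
      (c1.map _) fun x hx => ?_).imp (act_eq_one perf).1 fun e => ?_
    · obtain ⟨j, hj, rfl⟩ := mem_bar.1 hx
      rw [act_mk]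
      exact congrArg _ (Subtype.ext ((Act_coe _ _).trans (conj_eq_of_comm (comm_of_CC hq1 hj).symm)))
    · refine (act_eq_one perf (n := ⟨q, qn⟩ * ⟨z, hn⟩)).1 ?_
      rw [map_mul, e, ← map_mul, ← map_one (act J)]
      exact congrArg _ (Subtype.ext (mul_self_of_two z2))
  · obtain ⟨U, hU⟩ := syl_bar hS
    have cn : c ∈ NN J := by
      refine mem_NN_of_fix (Y := R ⊓ J ⊓ C1 c) hJ hc (inf_le_left.trans inf_le_right) (fun h => ?_)
        (mem_CC.2 fun k hk => mem_C1.1 hk.2)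
      have key : ∀ a ∈ bar J (R ⊓ J), ∀ b ∈ bar J (R ⊓ J), a ≠ 1 → b ≠ 1 → a = b := by
        intro a ha b hb a1 b1
        obtain ⟨i, hi, rfl⟩ := mem_bar.1 ha
        obtain ⟨j, hj, rfl⟩ := mem_bar.1 hb
        have e1 := (hu i hi.1).resolve_left fun e => a1 (mk_eq_one.2 (h ⟨hi, mem_C1.2 (comm_of_conj_eq e)⟩))
        have e2 := (hu j hj.1).resolve_left fun e => b1 (mk_eq_one.2 (h ⟨hj, mem_C1.2 (comm_of_conj_eq e)⟩))
        refine QuotientGroup.eq.2 (Act_cen.2 (h ⟨(R ⊓ J).mul_mem ((R ⊓ J).inv_mem hi) hj, mem_C1.2 (comm_of_conj_eq ?_)⟩))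
        change (i : G)⁻¹ * j * c * ((i : G)⁻¹ * j)⁻¹ = c
        calc _ = (i : G)⁻¹ * (j * c * (j : G)⁻¹) * i := by group
          _ = c := by rw [e2, ← e1]; group
      refine p.idx U (fun u hu => hU.ge (VP_inv hz hn (hU.le hu))) ?_
      rw [relIndex_eq_one.2 fun u hu => ?_]
      · norm_num
      change act J ⟨z, hn⟩ u = u
      by_cases u1 : u = 1
      · rw [u1, map_one]
      · exact key _ (VP_inv hz hn (hU.le hu)) _ (hU.le hu) (fun e => u1 ((MulEquiv.map_eq_one_iff _).1 e)) u1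
    refine (act_eq_one perf (n := ⟨c, cn⟩ ^ 2)).1 ?_
    rw [map_pow]
    refine p.z4 U _ (by rw [← map_pow, ← map_one (act J)]; exact congrArg _ (Subtype.ext c4)) fun u hu' => ?_
    obtain ⟨j, hj, rfl⟩ := mem_bar.1 (hU.le hu')
    rw [← act_of_mem, ← map_inv, ← map_mul, ← map_mul, ← map_inv]
    exact (hu j hj.1).imp (fun e => congrArg _ (Subtype.ext e)) fun e => congrArg _ (Subtype.ext e)
  · have hy : y ∈ C1 w := mem_C1.2 hwy.symm
    obtain ⟨M, h1, h2⟩ := pu y2 hy (g.e1 w w2) hJ (fun j hj => mem_C1.2 (comm_of_CC hw hj)) fun M h => hM M h hy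
    refine h2.trans (h1.le_centralizer_of_ne hK fun e => hlt.ne (eq_of_le_of_card_ge hlt.le ?_))
    rw [← hc, ← e]
    exact card_le_of_le h2

end Cfsg.Agent.QF
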